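import Cfsg.Agent.H802.TE.Defs
import Cfsg.Agent.H511.TE.LA2

/-!
# S5261, part E, [TE-Bo]: `p` odd, `E ≤ Q2` not in a line: `Z3 ≤ E`
-/

set_option autoImplicit false
set_option linter.unusedSectionVars false

namespace Cfsg.Agent.H775.TE

open Cfsg Cfsg.FusionSystem Cfsg.Agent.H756.PU
open Cfsg.Agent.H765.D3 Cfsg.Agent.H765.D3.Sy
open Cfsg.Agent.H802.TE
open Cfsg.Agent.H511.TE (quad_indep quad_span two_ne_of_charP cr_injective)
open Cfsg.Agent.Hex.Defs (sh cr nm tr)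
open scoped commutatorElement

universe u

section Lin

variable {F K : Type u} [Field F] [Field K] [Algebra F K] (φ : K ≃ₐ[F] K) [Cub φ]

include φ in
theorem card_K : Nat.card K = Nat.card F ^ 3 := by
  obtain ⟨θ, hθ⟩ := Cub.ne (φ := φ)
  have hb : Function.Bijective (fun v : F × F × F =>
      algebraMap F K v.1 + algebraMap F K v.2.1 * θ + algebraMap F K v.2.2 * θ ^ 2) := by
    refine ⟨fun v w h => ?_, fun s => ?_⟩
    · have h1 : algebraMap F K (v.1 - w.1) + algebraMap F K (v.2.1 - w.2.1) * θ +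
          algebraMap F K (v.2.2 - w.2.2) * θ ^ 2 = 0 := by
        simp only [map_sub]
        linear_combination h
      obtain ⟨e1, e2, e3⟩ := quad_indep φ hθ h1
      exact Prod.ext (sub_eq_zero.1 e1) (Prod.ext (sub_eq_zero.1 e2) (sub_eq_zero.1 e3))
    · obtain ⟨x, y, z, h⟩ := quad_span φ hθ s
      exact ⟨(x, y, z), h.symm⟩
  rw [← Nat.card_congr (Equiv.ofBijective _ hb), Nat.card_prod, Nat.card_prod]
  ring

/-- the pairing with `(a, c)` -/
noncomputable def pr (a c : K) : K →ₗ[F] F × F where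
  toFun b := (tr φ (a * b), tr φ (c * b))
  map_add' x y := by simp only [mul_add, tr_add, Prod.mk_add_mk]
  map_smul' s x := by
    simp only [mul_smul_comm, tr_smul, Prod.smul_mk, smul_eq_mul, RingHom.id_apply]

variable {φ}

theorem pr_surj {a c : K} (hind : ∀ l m : F, l • a + m • c = 0 → l = 0 ∧ m = 0) :
    Function.Surjective (pr φ a c) := by
  rw [← LinearMap.range_eq_top]
  by_contra hne
  obtain ⟨f, hf, hle⟩ := Submodule.exists_le_ker_of_lt_top _ (lt_top_iff_ne_top.2 hne)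
  have h1 : ∀ v : F × F, f v = v.1 * f (1, 0) + v.2 * f (0, 1) := fun v => by
    have : v = v.1 • ((1, 0) : F × F) + v.2 • ((0, 1) : F × F) := by
      ext <;> simp
    conv_lhs => rw [this]
    rw [map_add, map_smul, map_smul, smul_eq_mul, smul_eq_mul]
  have h2 : f (1, 0) • a + f (0, 1) • c = 0 := by
    apply tr_nondeg φ
    intro b
    have h3 := hle ⟨b, rfl⟩
    rw [LinearMap.mem_ker, h1] at h3
    have h4 : tr φ (a * b) * f (1, 0) + tr φ (c * b) * f (0, 1) = 0 := h3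
    rw [add_mul, tr_add, smul_mul_assoc, smul_mul_assoc, tr_smul, tr_smul]
    linear_combination h4
  obtain ⟨h4, h5⟩ := hind _ _ h2
  apply hf
  ext
  · simpa using h4
  · simpa using h5

theorem card_ker_pr [Finite K] [Finite F] {a c : K} (hind : ∀ l m : F, l • a + m • c = 0 → l = 0 ∧ m = 0) :
    Nat.card (LinearMap.ker (pr φ a c)) = Nat.card F := by
  have h1 := AddSubgroup.card_mul_index (pr φ a c).toAddMonoidHom.ker
  rw [AddSubgroup.index_ker, AddMonoidHom.range_eq_top.2 (pr_surj hind)] at h1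
  have h2 : Nat.card ((⊤ : AddSubgroup (F × F))) = Nat.card F ^ 2 := by
    rw [AddSubgroup.card_top, Nat.card_prod, sq]
  rw [h2, card_K φ] at h1
  have h3 : 0 < Nat.card F ^ 2 := pow_pos Nat.card_pos 2
  have h4 : Nat.card (pr φ a c).toAddMonoidHom.ker = Nat.card F :=
    Nat.eq_of_mul_eq_mul_right h3 (by rw [h1]; ring)
  rw [← h4]
  rfl

/-- the double orthogonal complement -/
theorem mem_span_of_tr {a c h : K} (hh : ∀ b : K, tr φ (a * b) = 0 → tr φ (c * b) = 0 → tr φ (h * b) = 0) :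
    ∃ l m : F, h = l • a + m • c := by
  have key : ∀ x : K, ∃ f : K →ₗ[F] F, ∀ b, f b = tr φ (x * b) := fun x =>
    ⟨{ toFun := fun b => tr φ (x * b)
       map_add' := fun _ _ => by rw [mul_add, tr_add]
       map_smul' := fun s y => by rw [mul_smul_comm, tr_smul]; rfl }, fun b => rfl⟩
  obtain ⟨fa, hfa⟩ := key a
  obtain ⟨fc, hfc⟩ := key c
  obtain ⟨fh, hfh⟩ := key h
  have h1 : fh ∈ Submodule.span F (Set.range ![fa, fc]) := by
    apply mem_span_of_iInf_ker_le_ker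
    intro b hb
    rw [Submodule.mem_iInf] at hb
    have h0 := hb 0
    have h1 := hb 1
    simp only [Matrix.cons_val_zero, Matrix.cons_val_one, LinearMap.mem_ker] at h0 h1 ⊢
    rw [hfh]
    exact hh b (by rw [← hfa]; exact h0) (by rw [← hfc]; exact h1)
  have h2 : Set.range ![fa, fc] = {fa, fc} := by
    ext x
    simp [eq_comm, or_comm]
  rw [h2, Submodule.mem_span_pair] at h1
  obtain ⟨l, m, h3⟩ := h1
  refine ⟨l, m, ?_⟩
  rw [← sub_eq_zero]
  apply tr_nondeg φ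
  intro b
  have h4 := LinearMap.congr_fun h3 b
  rw [hfh] at h4
  rw [sub_mul, add_mul, smul_mul_assoc, smul_mul_assoc, tr_sub, tr_add, tr_smul, tr_smul, ← h4, ← hfa, ← hfc]
  simp

theorem no_quad (h2 : (2 : K) ≠ 0) {a c : K} {l m : F} (h : l • cr φ a a + m • cr φ a c = cr φ c c)
    (hind : ∀ l m : F, l • a + m • c = 0 → l = 0 ∧ m = 0) : False := by
  have ha : a ≠ 0 := by
    rintro rfl
    have := (hind 1 0 (by simp)).1
    exact one_ne_zero this
  obtain ⟨t, ht⟩ : ∃ t : K, c = a * t := ⟨c / a, (mul_div_cancel₀ c ha).symm⟩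
  have hsa : sh φ a ≠ 0 := fun e => ha ((sh_eq_zero φ).1 e)
  have htt : φ t ≠ t := fun e => by
    obtain ⟨s, hs⟩ := exists_coe φ e
    have := (hind s (-1) (by
      rw [ht, ← hs, Algebra.smul_def, neg_one_smul]
      ring)).2
    exact one_ne_zero (neg_eq_zero.1 this)
  have e0 : sh φ a * (2 * algebraMap F K l + algebraMap F K m * (φ t + φ (φ t)) - 2 * (φ t * φ (φ t))) = 0 := by
    have e : l • cr φ a a + m • cr φ a (a * t) - cr φ (a * t) (a * t) = 0 := by
      rw [← ht, h, sub_self]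
    rw [← e]
    cub
  have e1 := (mul_eq_zero.1 e0).resolve_left hsa
  have e2 := congrArg φ e1
  simp only [map_add, map_sub, map_mul, map_ofNat, phi_coe, phi3, map_zero] at e2
  have e3 : (φ t - t) * (algebraMap F K m - 2 * φ (φ t)) = 0 := by linear_combination e1 - e2
  have e4 := (mul_eq_zero.1 e3).resolve_left (sub_ne_zero.2 htt)
  have e5 := congrArg φ e4
  simp only [map_sub, map_mul, map_ofNat, phi_coe, phi3, map_zero] at e5
  have e6 : 2 * (φ (φ t) - t) = 0 := by linear_combination e5 - e4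
  have e7 := sub_eq_zero.1 ((mul_eq_zero.1 e6).resolve_left h2)
  apply htt
  have := congrArg φ e7
  rw [phi3] at this
  exact this.symm

end Lin

section Grp

variable {F K : Type u} [Field F] [Field K] [Algebra F K] {φ : K ≃ₐ[F] K} [Cub φ]

/-- commutators in `Q2` -/
theorem comm_Q2_x5 {x y : Sy φ} (hx : x.x6 = 0) (hy : y.x6 = 0) : (⁅x, y⁆).x5 = 0 := by
  rw [comm_x5, hx, hy, zero_smul, zero_smul, sub_zero]

theorem comm_Q2_x3 {x y : Sy φ} (hx : x.x6 = 0) (hy : y.x6 = 0) :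
    (⁅x, y⁆).x3 = cr φ x.x1 y.x5 - cr φ y.x1 x.x5 := by
  have := congrArg Sy.x3 (comm_mul x y)
  rw [mul_x3, mul_x3, mul_x3, comm_x1, hx, hy, mul_x6, hx, hy] at this
  simp only [cr_zero_left, zero_smul, add_zero] at this
  linear_combination -this

theorem le_normalizer {G : Type*} [Group G] {A E : Subgroup G} (h : Com A E E) :
    A ≤ Subgroup.normalizer (E : Set G) := by
  have key : ∀ x ∈ A, ∀ e ∈ E, x * e * x⁻¹ ∈ E := fun x hx e he => by
    have := mul_mem (h x hx e he) he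
    simpa using this
  intro x hx
  rw [Subgroup.mem_normalizer_iff]
  intro e
  refine ⟨key x hx e, fun h1 => ?_⟩
  have := key x⁻¹ (inv_mem hx) _ h1
  simpa [mul_assoc] using this

theorem card_mul_relIndex {G : Type*} [Group G] {H L : Subgroup G} (h : H ≤ L) :
    Nat.card H * H.relIndex L = Nat.card L := by
  rw [← Subgroup.relIndex_bot_left, Subgroup.relIndex_mul_relIndex _ _ _ bot_le h, Subgroup.relIndex_bot_left]

theorem count {q B i j m : ℕ} (hq : 0 < q) (h1 : B * i = q ^ 5) (h2 : B ≤ q ^ 3) (h3 : m * j = q ^ 2)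
    (h4 : i ≤ j) : m = 1 ∧ i = q ^ 2 ∧ B = q ^ 3 := by
  have hq3 : 0 < q ^ 3 := pow_pos hq 3
  have hq2 : 0 < q ^ 2 := pow_pos hq 2
  have hm : 0 < m := Nat.pos_of_ne_zero fun e => by rw [e, zero_mul] at h3; omega
  have h5 : j ≤ q ^ 2 := by rw [← h3]; exact Nat.le_mul_of_pos_left _ hm
  have h6 : q ^ 2 ≤ i := by
    have : q ^ 3 * q ^ 2 ≤ q ^ 3 * i := by
      calc q ^ 3 * q ^ 2 = B * i := by rw [h1]; ring
        _ ≤ q ^ 3 * i := Nat.mul_le_mul_right _ h2
    exact Nat.le_of_mul_le_mul_left this hq3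
  have h7 : i = q ^ 2 := le_antisymm (h4.trans h5) h6
  have h8 : j = q ^ 2 := le_antisymm h5 (h6.trans h4)
  refine ⟨?_, h7, ?_⟩
  · rw [h8] at h3
    exact Nat.eq_of_mul_eq_mul_right hq2 (by rw [h3, one_mul])
  · rw [h7] at h1
    exact Nat.eq_of_mul_eq_mul_right hq2 (by rw [h1]; ring)

end Grp

theorem stBo (hphi : StPhi.{u}) (hp2 : StP2.{u}) (hp2w : StP2w.{u}) (hhull : StHull.{u}) : StBo.{u} := by
  intro F K _ _ _ _ _ φ _ p _ E Γ hess hp hE hL
  by_contra hZ
  have h2 : (2 : K) ≠ 0 := two_ne_of_charP hp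
  have hx6 : ∀ e ∈ E, e.x6 = 0 := fun e he => hE he
  obtain ⟨hΦE, hΦc, -, -, -, -⟩ := hphi E p hess.pp inferInstance (hess.pgr.to_le le_top)
  -- `Z2` is central in `E`
  have hcomm : ∀ z ∈ Z2 φ, ∀ e ∈ E, z * e = e * z := fun z hz e he => by
    have h1 := comm_Z2 (x := e) hz
    rw [hx6 e he, zero_mul] at h1
    exact (commutatorElement_eq_one_iff_mul_comm.1 h1).symm
  have hZ2E : Z2 φ ≤ E := fun z hz => hess.cent z trivial (hcomm z hz)
  have hC3 : Com (Z3 φ) E (Z2 φ) := fun z hz e he => by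
    have h1 := (Z2 φ).inv_mem (comm_mem_Z2 (x := e) hz)
    rw [commutatorElement_inv] at h1
    exact h1
  have hN : Z3 φ ≤ normalizerIn ⊤ E :=
    le_inf le_top (le_normalizer fun z hz e he => hZ2E (hC3 z hz e he))
  -- the element `u`
  obtain ⟨γ, hγ, y, hy, w, hw, hnot⟩ := hhull hess (Z3 φ) (Z2 φ) le_top hZ2E hC3 hZ
  obtain ⟨u, hudef⟩ : ∃ u : Sy φ, u = ((γ y : E) : Sy φ) := ⟨_, rfl⟩
  rw [← hudef] at hnot
  have huE : u ∈ E := by rw [hudef]; exact (γ y).2
  have hu6 : u.x6 = 0 := hx6 u huE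
  have hu : ∀ e ∈ E, ⁅u, e⁆ = 1 := fun e he => by
    rw [commutatorElement_eq_one_iff_mul_comm]
    have h1 : y * γ.symm ⟨e, he⟩ = γ.symm ⟨e, he⟩ * y := Subtype.ext (hcomm y hy _ (γ.symm ⟨e, he⟩).2)
    have h3 := congrArg γ h1
    rw [map_mul, map_mul, MulEquiv.apply_symm_apply] at h3
    have h4 := congrArg Subtype.val h3
    rw [hudef]
    exact h4
  obtain ⟨a, ha⟩ : ∃ a, a = u.x1 := ⟨_, rfl⟩
  obtain ⟨c, hc⟩ : ∃ c, c = u.x5 := ⟨_, rfl⟩
  have hne : a ≠ 0 ∨ c ≠ 0 := by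
    by_contra hcon
    push Not at hcon
    apply hnot
    have h1 : u ∈ Z3 φ := ⟨by rw [← ha]; exact hcon.1, hu6, by rw [← hc]; exact hcon.2⟩
    have h3 : w * u * w⁻¹ * u⁻¹ = 1 := comm_Z3_Z3 hw h1
    rw [h3]
    exact one_mem _
  have star : ∀ e ∈ E, cr φ a e.x5 = cr φ e.x1 c := fun e he => by
    have h1 := comm_Q2_x3 hu6 (hx6 e he)
    rw [hu e he, one_x3, ← ha, ← hc] at h1
    exact (sub_eq_zero.1 h1.symm)
  have hind : ∀ l m : F, l • a + m • c = 0 → l = 0 ∧ m = 0 := by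
    intro l m hlm
    by_contra hcon
    apply hL
    refine ⟨l, m, by tauto, fun e he => ?_⟩
    have e1 : cr φ a (l • e.x1 + m • e.x5) = 0 := by
      rw [cr_add_right, cr_smul_right, cr_smul_right, star e he, cr_comm φ a, ← cr_smul_right, ← cr_smul_right,
        ← cr_add_right, hlm, cr_zero_right]
    have e2 : cr φ c (l • e.x1 + m • e.x5) = 0 := by
      rw [cr_add_right, cr_smul_right, cr_smul_right, cr_comm φ c, ← star e he, cr_comm φ a, cr_comm φ c,
        ← cr_smul_right, ← cr_smul_right, ← cr_add_right, hlm, cr_zero_right]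
    rcases hne with h | h
    · exact (cr_eq_zero φ h2 e1).resolve_left h
    · exact (cr_eq_zero φ h2 e2).resolve_left h
  have ha0 : a ≠ 0 := by
    intro h
    exact one_ne_zero (hind 1 0 (by rw [h]; simp)).1
  -- the subgroup `E ⊓ Z3`
  have hEP : ∀ x ∈ E, x ∈ Z3 φ → tr φ (a * x.x3) = 0 ∧ tr φ (c * x.x3) = 0 := fun x hx hx3 => by
    have h1 := hu x hx
    have h3 := comm_x2' (x := u) hx3
    have h4 := comm_x4' (x := u) hx3
    rw [h1, one_x2, ← ha] at h3
    rw [h1, one_x4, hu6, zero_mul, zero_mul, add_zero, zero_sub, ← hc, mul_comm] at h4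
    exact ⟨h3.symm, neg_eq_zero.1 h4.symm⟩
  let P : Set (Sy φ) := {x | x ∈ Z3 φ ∧ tr φ (a * x.x3) = 0 ∧ tr φ (c * x.x3) = 0}
  have hcardP : Nat.card P = Nat.card F ^ 3 := by
    have h1 : Nat.card P = Nat.card (LinearMap.ker (pr φ a c) × F × F) :=
      Nat.card_congr
        { toFun := fun x => (⟨x.1.x3, by
            rw [LinearMap.mem_ker]
            exact Prod.ext x.2.2.1 x.2.2.2⟩, x.1.x2, x.1.x4)
          invFun := fun v => ⟨⟨0, 0, 0, v.1.1, v.2.1, v.2.2⟩, ⟨rfl, rfl, rfl⟩,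
            congrArg Prod.fst (LinearMap.mem_ker.1 v.1.2), congrArg Prod.snd (LinearMap.mem_ker.1 v.1.2)⟩
          left_inv := fun x => by
            obtain ⟨x, ⟨h1, h2, h3⟩, h4⟩ := x
            apply Subtype.ext
            ext
            exacts [h1.symm, h2.symm, h3.symm, rfl, rfl, rfl]
          right_inv := fun v => rfl }
    rw [h1, Nat.card_prod, Nat.card_prod, card_ker_pr hind]
    ring
  have hsub : ((E ⊓ Z3 φ : Subgroup (Sy φ)) : Set (Sy φ)) ⊆ P := fun x hx => ⟨hx.2, hEP x hx.1 hx.2⟩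
  have hB : Nat.card ↥(E ⊓ Z3 φ) ≤ Nat.card F ^ 3 := by
    rw [← hcardP]
    exact Nat.card_le_card_of_injective (Set.inclusion hsub) (Set.inclusion_injective hsub)
  have h1 : Nat.card ↥(E ⊓ Z3 φ) * E.relIndex (Z3 φ) = Nat.card F ^ 5 := by
    have h := card_mul_relIndex (inf_le_right : E ⊓ Z3 φ ≤ Z3 φ)
    rw [Subgroup.inf_relIndex_right, card_Z3, card_K φ] at h
    rw [h]
    ring
  have h3 : Nat.card ↥(Z2 φ ⊓ Phi E) * (Z2 φ ⊓ Phi E).relIndex (Z2 φ) = Nat.card F ^ 2 := by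
    rw [card_mul_relIndex inf_le_left, card_Z2]
  have h4 : E.relIndex (Z3 φ) ≤ (Z2 φ ⊓ Phi E).relIndex (Z2 φ) := by
    have h := hp2 hess (Z3 φ) (Z3 φ) (Z2 φ) (Z2 φ) (Z2 φ ⊓ Phi E) (Z2 φ ⊓ Phi E) hN hN hZ hZ2E hZ2E hC3 hC3
      inf_le_right inf_le_right
    rw [← sq] at h
    exact (Nat.pow_le_pow_iff_left (by norm_num)).1 h
  obtain ⟨hm, hi, hBe⟩ := count Nat.card_pos h1 hB h3 h4
  have hbot : Z2 φ ⊓ Phi E = ⊥ := Subgroup.card_eq_one.1 hm
  have hPE : ∀ x ∈ P, x ∈ E := by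
    have h5 : ((E ⊓ Z3 φ : Subgroup (Sy φ)) : Set (Sy φ)) = P := by
      apply Set.eq_of_subset_of_ncard_le hsub
      rw [← Nat.card_coe_set_eq, ← Nat.card_coe_set_eq, hcardP]
      exact hBe.ge
    intro x hx
    rw [← h5] at hx
    exact hx.1
  -- the coordinates of `E` lie in `F a + F c`
  have hperp : ∀ e ∈ E, ∀ b : K, tr φ (a * b) = 0 → tr φ (c * b) = 0 → tr φ (e.x1 * b) = 0 ∧ tr φ (e.x5 * b) = 0 := by
    intro e he b hb1 hb2
    have hbE : u3 φ b ∈ E := hPE _ ⟨u3_mem b, hb1, hb2⟩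
    have h5 : ⁅e, u3 φ b⁆ ∈ Z2 φ ⊓ Phi E := ⟨comm_mem_Z2 (u3_mem b), hΦc e he _ hbE⟩
    rw [hbot, Subgroup.mem_bot] at h5
    have h6 := comm_x2' (x := e) (u3_mem (φ := φ) b)
    have h7 := comm_x4' (x := e) (u3_mem (φ := φ) b)
    rw [h5, one_x2] at h6
    rw [h5, one_x4, hx6 e he, zero_mul, zero_mul, add_zero, zero_sub, mul_comm] at h7
    exact ⟨h6.symm, neg_eq_zero.1 h7.symm⟩
  have hspan1 : ∀ e ∈ E, ∃ l m : F, e.x1 = l • a + m • c := fun e he =>
    mem_span_of_tr fun b hb1 hb2 => (hperp e he b hb1 hb2).1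
  have hspan5 : ∀ e ∈ E, ∃ l m : F, e.x5 = l • a + m • c := fun e he =>
    mem_span_of_tr fun b hb1 hb2 => (hperp e he b hb1 hb2).2
  -- `E / E ⊓ Z3`
  have h5 : E.relIndex (Z3 φ) ≤ (E ⊓ Z3 φ).relIndex E := by
    have hcom : Com (Z3 φ) (E ⊓ Z3 φ) (Phi E) := fun z hz e he => by
      have h : z * e * z⁻¹ * e⁻¹ = 1 := comm_Z3_Z3 hz he.2
      rw [h]
      exact one_mem _
    have h := hp2w hess (Z3 φ) (Z3 φ) (E ⊓ Z3 φ) (E ⊓ Z3 φ) hN hN hZ inf_le_left inf_le_left hcom hcom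
    rw [← sq] at h
    exact (Nat.pow_le_pow_iff_left (by norm_num)).1 h
  let f : E →* Multiplicative K := (hom1 φ).comp E.subtype
  have hker : f.ker = (E ⊓ Z3 φ).subgroupOf E := by
    ext e
    rw [MonoidHom.mem_ker, Subgroup.mem_subgroupOf]
    constructor
    · intro h
      have h6 : (e : Sy φ).x1 = 0 := h
      refine ⟨e.2, h6, hx6 _ e.2, ?_⟩
      have h7 := star _ e.2
      rw [h6, cr_zero_left] at h7
      exact (cr_eq_zero φ h2 h7).resolve_left ha0
    · intro h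
      exact h.2.1
  have h6 : (E ⊓ Z3 φ).relIndex E = Nat.card f.range := by
    rw [Subgroup.relIndex, ← hker, Subgroup.index_ker]
  let D : Set K := {t | ∃ e ∈ E, e.x1 = t}
  have hDcard : Nat.card f.range = D.ncard := by
    rw [← Nat.card_coe_set_eq]
    refine Nat.card_congr (Equiv.subtypeEquiv Multiplicative.toAdd fun t => ?_)
    constructor
    · rintro ⟨e, he⟩
      exact ⟨e, e.2, congrArg Multiplicative.toAdd he⟩
    · rintro ⟨e, he, h⟩
      exact ⟨⟨e, he⟩, h⟩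
  let T : Set K := Set.range fun v : F × F => v.1 • a + v.2 • c
  have hDT : D ⊆ T := by
    rintro _ ⟨e, he, rfl⟩
    obtain ⟨l, m, h⟩ := hspan1 e he
    exact ⟨(l, m), h.symm⟩
  have hT : T.ncard ≤ Nat.card F ^ 2 := by
    rw [← Nat.card_coe_set_eq]
    have h := Finite.card_range_le (fun v : F × F => v.1 • a + v.2 • c)
    rw [Nat.card_prod, ← sq] at h
    exact h
  have hDeq : D = T := by
    apply Set.eq_of_subset_of_ncard_le hDT
    rw [← hDcard, ← h6]
    exact (hT.trans hi.ge).trans h5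
  have hcD : c ∈ D := by
    rw [hDeq]
    exact ⟨(0, 1), by simp⟩
  obtain ⟨e, he, hec⟩ := hcD
  obtain ⟨l, m, hlm⟩ := hspan5 e he
  have h7 := star e he
  rw [hec, hlm, cr_add_right, cr_smul_right, cr_smul_right] at h7
  exact no_quad h2 h7 hind

end Cfsg.Agent.H775.TE
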